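import Groth.Agent.Lib.FlatStrat53.FibreChi
import Groth.Agent.Lib.Exchange.LocalRep
import Groth.Agent.Lib.Cyc.FP.Stalk

/-!
# Fibres after a base change by a preimmersion
-/

set_option autoImplicit false
set_option linter.style.haveILetI false
set_option maxHeartbeats 1000000
universe u

open CategoryTheory CategoryTheory.Limits AlgebraicGeometry
open _root_.ZarCoh.Exchange Groth.Agent.Lib

namespace Groth.Agent.H84.TwistBound.BC

variable {X T S : Scheme.{u}} (f : X ⟶ T) (g : S ⟶ T) [IsPreimmersion g]

theorem isIso_residueFieldMap (z : S) : IsIso (g.residueFieldMap z) := by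
  refine (ConcreteCategory.isIso_iff_bijective _).2 ⟨(g.residueFieldMap z).hom.injective, fun b => ?_⟩
  obtain ⟨b', rfl⟩ := S.residue_surjective z b
  obtain ⟨a, rfl⟩ := g.stalkMap_surjective z b'
  exact ⟨T.residue (g z) a, ConcreteCategory.congr_hom (Scheme.residue_residueFieldMap g z) a⟩

/-- The fibre over a point of the smaller base is the fibre over its image. -/
theorem exists_fiber_iso (z : S) :
    ∃ (θ : T.residueField (g z) ≅ S.residueField z)
      (E : (pullback.snd f g).fiber z ≅ f.fiber (g z)),
      E.hom ≫ f.fiberι (g z) = (pullback.snd f g).fiberι z ≫ pullback.fst f g ∧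
      E.hom ≫ f.fiberToSpecResidueField (g z) ≫ Spec.map θ.inv =
        (pullback.snd f g).fiberToSpecResidueField z := by
  haveI := isIso_residueFieldMap g z
  let θ : T.residueField (g z) ≅ S.residueField z := asIso (g.residueFieldMap z)
  have h1 : IsPullback ((pullback.snd f g).fiberι z ≫ pullback.fst f g)
      ((pullback.snd f g).fiberToSpecResidueField z) f (S.fromSpecResidueField z ≫ g) :=
    (IsPullback.of_hasPullback (pullback.snd f g) (S.fromSpecResidueField z)).paste_horiz
      (IsPullback.of_hasPullback f g)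
  have hθ : Spec.map θ.hom ≫ T.fromSpecResidueField (g z) = S.fromSpecResidueField z ≫ g :=
    Scheme.Hom.SpecMap_residueFieldMap_fromSpecResidueField g z
  have h2 : IsPullback (f.fiberι (g z)) (f.fiberToSpecResidueField (g z) ≫ Spec.map θ.inv) f
      (S.fromSpecResidueField z ≫ g) := by
    refine IsPullback.of_iso (IsPullback.of_hasPullback f (T.fromSpecResidueField (g z)))
      (Iso.refl _) (Iso.refl _) (asIso (Spec.map θ.inv)) (Iso.refl _) ?_ ?_ ?_ ?_
    · exact (Category.comp_id _).trans (Category.id_comp _).symm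
    · exact (Category.id_comp _).symm
    · exact (Category.comp_id _).trans (Category.id_comp _).symm
    · rw [Iso.refl_hom, Category.comp_id, asIso_hom, ← hθ, ← Category.assoc, ← Spec.map_comp,
        Iso.hom_inv_id, Spec.map_id, Category.id_comp]
  exact ⟨θ, h1.isoIsPullback _ _ h2, h1.isoIsPullback_hom_fst _ _ h2, h1.isoIsPullback_hom_snd _ _ h2⟩

theorem topologicalKrullDim_fiber (z : S) :
    topologicalKrullDim ↥((pullback.snd f g).fiber z) = topologicalKrullDim ↥(f.fiber (g z)) := by
  obtain ⟨-, E, -, -⟩ := exists_fiber_iso f g z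
  exact E.hom.homeomorph.isHomeomorph.topologicalKrullDim_eq

/-- The fibre cohomology after the base change. -/
theorem fiberRank_eq [IsProper f] (M : X.Modules) [M.IsQuasicoherent] (z : S) (i : ℕ) :
    CohIII.fiberRank (pullback.snd f g) ((Scheme.Modules.pullback (pullback.fst f g)).obj M) i z =
      CohIII.fiberRank f M i (g z) := by
  obtain ⟨θ, E, hE₁, hE₂⟩ := exists_fiber_iso f g z
  let f' := pullback.snd f g
  letI : (f.fiber (g z)).Over (Spec (CommRingCat.of (S.residueField z))) :=
    ⟨f.fiberToSpecResidueField (g z) ≫ Spec.map θ.inv⟩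
  letI : (f'.fiber z).Over (Spec (CommRingCat.of (S.residueField z))) :=
    ⟨f'.fiberToSpecResidueField z⟩
  haveI : IsProper (f.fiberToSpecResidueField (g z)) :=
    MorphismProperty.of_isPullback (IsPullback.of_hasPullback f (T.fromSpecResidueField (g z))) ‹_›
  haveI : CompactSpace ↥(f.fiber (g z)) :=
    QuasiCompact.compactSpace_of_compactSpace (f.fiberToSpecResidueField (g z))
  haveI : QuasiSeparatedSpace ↥(f.fiber (g z)) :=
    quasiSeparatedSpace_of_quasiSeparated (f.fiberToSpecResidueField (g z))
  haveI : ((Scheme.Modules.pullback (f.fiberι (g z))).obj M).IsQuasicoherent :=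
    QCoh.Pullback.isQCoh_pullback (f.fiberι (g z)) M
  let i' : (Scheme.Modules.pullback E.hom).obj ((Scheme.Modules.pullback (f.fiberι (g z))).obj M) ≅
      (Scheme.Modules.pullback (f'.fiberι z)).obj ((Scheme.Modules.pullback (pullback.fst f g)).obj M) :=
    (Scheme.Modules.pullbackComp E.hom (f.fiberι (g z))).app M ≪≫
      (Scheme.Modules.pullbackCongr hE₁).app M ≪≫
      ((Scheme.Modules.pullbackComp (f'.fiberι z) (pullback.fst f g)).app M).symm
  refine ((Curves.LES.isoK (S.residueField z) i' i).finrank_eq.symm.trans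
    (FlatStrat53.finrank_HH_iso E hE₂ _ i)).trans ?_
  refine (congrArg Cardinal.toNat (rank_eq_of_equiv_equiv θ.hom (AddEquiv.refl _)
    θ.commRingCatIsoToRingEquiv.bijective ?_)).symm
  intro r m
  show Coh.toGlobal (X := f.fiber (g z)) (f.fiberToSpecResidueField (g z)) r • m =
    Coh.toGlobal (X := f.fiber (g z)) (f.fiberToSpecResidueField (g z) ≫ Spec.map θ.inv) (θ.hom r) • m
  refine congrArg (fun c => c • m) ?_
  exact ((LocalRep.toGlobal_comp θ.inv (f.fiberToSpecResidueField (g z)) (θ.hom r)).trans
    (congrArg _ (Iso.hom_inv_id_apply θ r))).symm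

end Groth.Agent.H84.TwistBound.BC
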