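import Groth.Agent.Lib.Exchange.LocalRep
import Groth.Agent.Lib.Exchange.Proper
import Groth.Agent.Lib.IntTheory.ChiConst
import Groth.Agent.Lib.FlatCx.Rank

/-!
# A uniform bound for the fibre cohomology of a flat family over an affine open
-/

set_option autoImplicit false
set_option linter.style.haveILetI false
set_option maxHeartbeats 1000000
universe u

open CategoryTheory CategoryTheory.Limits AlgebraicGeometry
open _root_.ZarCoh.Exchange Groth.Agent.Lib Groth.Agent.Lib.FlatCx.Basic Groth.Agent.Lib.FlatCx.Rank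

namespace Groth.Agent.H84.TwistBound.Betti

variable {X S : Scheme.{u}} (f : X ⟶ S)

/-- Flatness at the points over an affine open gives flatness over its ring. -/
theorem flat_over (V : S.Opens) [IsAffine (V : Scheme.{u})] {M : X.Modules}
    (hM : ∀ x : X, f x ∈ V → FlatMod.IsFlatOverAt f M x) :
    FlatMod.IsFlatOver (Local.XV f V ↘ Spec (CommRingCat.of (Local.AV V))) (Local.MV f V M) := by
  intro x
  let k : Spec (CommRingCat.of (Local.AV V)) ⟶ S := (V : Scheme.{u}).isoSpec.inv ≫ V.ι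
  let g := Local.XV f V ↘ Spec (CommRingCat.of (Local.AV V))
  let N := Local.MV f V M
  have hj : ((f ⁻¹ᵁ V).ι.stalkMap x).hom.Flat :=
    RingHom.Flat.of_bijective (ConcreteCategory.bijective_of_isIso ((f ⁻¹ᵁ V).ι.stalkMap x))
  have h1 : FlatMod.IsFlatOverAt ((f ⁻¹ᵁ V).ι ≫ f) N x :=
    Flat55.FlatOverAt.of_iso _ ((Scheme.Modules.restrictFunctorIsoPullback (f ⁻¹ᵁ V).ι).app M).symm x
      ((Flat55.FlatOverAt.isFlatOverAt_pullback_iff _ f M x hj).2 (hM _ x.2))
  have hk : g ≫ k = (f ⁻¹ᵁ V).ι ≫ f := by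
    show ((f ∣_ V) ≫ (V : Scheme.{u}).isoSpec.hom) ≫ (V : Scheme.{u}).isoSpec.inv ≫ V.ι = _
    rw [Category.assoc, Iso.hom_inv_id_assoc, morphismRestrict_ι]
  have h2 : FlatMod.IsFlatOverAt (g ≫ k) N x := hk ▸ h1
  let R := S.presheaf.stalk (k (g x))
  let B := (Spec (CommRingCat.of (Local.AV V))).presheaf.stalk (g x)
  let P := N.presheaf.stalk x
  letI : Module B P := FlatMod.moduleStalkOver g N x
  letI : Module R P := FlatMod.moduleStalkOver (g ≫ k) N x
  letI : Algebra R B := (k.stalkMap (g x)).hom.toAlgebra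
  haveI : IsScalarTower R B P := IsScalarTower.of_algebraMap_smul fun r m => by
    show (g.stalkMap x).hom ((k.stalkMap (g x)).hom r) • m = ((g ≫ k).stalkMap x).hom r • m
    rw [Scheme.Hom.stalkMap_comp g k x]
    rfl
  haveI : Module.Flat R P := h2
  have hb : Function.Surjective (algebraMap R B) :=
    (ConcreteCategory.bijective_of_isIso (k.stalkMap (g x))).2
  refine Module.Flat.of_linearEquiv (R := B) (LinearEquiv.ofBijective
    (LinearMap.liftBaseChange B (LinearMap.id : P →ₗ[R] P)) ⟨fun z z' h => ?_,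
      fun m => ⟨1 ⊗ₜ m, by simp⟩⟩).symm
  have hz : ∀ z : TensorProduct R B P, z = 1 ⊗ₜ LinearMap.liftBaseChange B (LinearMap.id : P →ₗ[R] P) z := by
    intro z
    induction z using TensorProduct.induction_on with
    | zero => simp
    | tmul b m =>
      obtain ⟨r, rfl⟩ := hb b
      rw [LinearMap.liftBaseChange_tmul, LinearMap.id_apply, algebraMap_smul, TensorProduct.tmul_smul,
        TensorProduct.smul_tmul', ← Algebra.algebraMap_eq_smul_one]
    | add a b ha hb => rw [map_add, TensorProduct.tmul_add, ← ha, ← hb]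
  rw [hz z, hz z', h]

/-- The fibre dimension of a finite module is at most its number of generators. -/
theorem exists_fdim_le (A : Type u) [CommRing A] (N : Type u) [AddCommGroup N] [Module A N]
    [Module.Finite A N] : ∃ n : ℕ, ∀ x : PrimeSpectrum A, fdim N x ≤ n := by
  obtain ⟨d, g, hg⟩ := Module.Finite.exists_fin' A N
  refine ⟨d, fun x => (fdim_le_of_generators N g x ?_).1⟩
  haveI : Subsingleton (N ⧸ LinearMap.range g) :=
    Submodule.Quotient.subsingleton_iff.2 (LinearMap.range_eq_top.2 hg)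
  rw [Module.support_eq_empty]
  exact Set.notMem_empty x

variable [IsProper f] [IsLocallyNoetherian S]

/-- The fibre cohomology of a coherent module, flat over an affine open, is uniformly bounded. -/
theorem exists_fiberRank_bound (F : X.Modules) (hF : Coh.IsCoh F) (V : S.Opens)
    [IsAffine (V : Scheme.{u})] (hfl : ∀ x : X, f x ∈ V → FlatMod.IsFlatOverAt f F x) :
    ∃ C : ℕ, ∀ t ∈ V, ∀ i : ℕ, CohIII.fiberRank f F i t ≤ C := by
  haveI : IsNoetherianRing (Local.AV V) :=
    IsLocallyNoetherian.component_noetherian ⟨⊤, isAffineOpen_top (V : Scheme.{u})⟩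
  haveI : F.IsQuasicoherent := hF.1
  have hFV : Coh.IsCoh (Local.MV f V F) :=
    CohBasics.Closure.isCoh_of_iso ((Scheme.Modules.restrictFunctorIsoPullback (f ⁻¹ᵁ V).ι).app F).symm
      (haveI : IsLocallyNoetherian X := LocallyOfFiniteType.isLocallyNoetherian f
       Cyc.FP.Stalk.isCoh_pullback (f ⁻¹ᵁ V).ι hF)
  obtain ⟨b, P, hb, hfin, -, -, he⟩ := Proper.exists_rep (Local.AV V) (Local.MV f V F) hFV
    (flat_over f V hfl)
  haveI : ∀ i, Module.Finite (Local.AV V) (Q P i) := fun i =>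
    haveI := hfin i
    Module.Finite.quotient _ _
  choose n hn using fun i : ℤ => exists_fdim_le (Local.AV V) (Q P i)
  refine ⟨∑ j ∈ Finset.range ((-b).toNat + 1), (n (-(j : ℤ)) + n (-(j : ℤ) - 1)), fun t ht i => ?_⟩
  obtain ⟨e⟩ := he i
  obtain ⟨x, rfl⟩ : ∃ x : PrimeSpectrum (Local.AV V), LocalRep.k V x = t := by
    refine ⟨(V : Scheme.{u}).isoSpec.hom ⟨t, ht⟩, ?_⟩
    show ((V : Scheme.{u}).isoSpec.hom ≫ (V : Scheme.{u}).isoSpec.inv ≫ V.ι) ⟨t, ht⟩ = t
    rw [Iso.hom_inv_id_assoc]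
    rfl
  rw [LocalRep.fiberRank_eq f V F x e]
  by_cases hi : (-b).toNat < i
  · rw [IntTheory.ChiConst.dRank_eq_zero P (hb _ (by omega)) x]
    exact Nat.zero_le _
  · refine le_trans ?_ (Finset.single_le_sum (f := fun j : ℕ => n (-(j : ℤ)) + n (-(j : ℤ) - 1))
      (fun j _ => Nat.zero_le _) (Finset.mem_range.2 (show i < (-b).toNat + 1 by omega)))
    haveI := hfin (-(i : ℤ))
    haveI := hfin (-(i : ℤ) - 1)
    have h := FlatCx.DRank.dRank_add P (-(i : ℤ)) (-(i : ℤ) - 1) (by omega) x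
    have h1 := hn (-(i : ℤ)) x
    have h2 := hn (-(i : ℤ) - 1) x
    show CohIII.dRank P (-(i : ℤ)) x ≤ n (-(i : ℤ)) + n (-(i : ℤ) - 1)
    omega

end Groth.Agent.H84.TwistBound.Betti
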