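import Groth.Agent.H84.TwistBound.Tensor
import Groth.Agent.Lib.SqZeroMod.Lift
import Groth.Agent.H46.FiberStalk
import Groth.Agent.Lib.Curves.LES
import Groth.Agent.Lib.ExchangeFP29.Main
import Groth.Agent.Lib.ZarCoh.FP
import Groth.Agent.Lib.Cyc.FP.Stalk
import Groth.Agent.Lib.CohBasics.Closure

/-!
# Fibres of a short exact sequence with flat quotient, and the ranks of their cohomology
-/

set_option autoImplicit false
set_option linter.style.haveILetI false
universe u

open CategoryTheory CategoryTheory.Limits AlgebraicGeometry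
open Groth.Agent.Lib Groth.Agent.Lib.Modules.StalkModule
open scoped TensorProduct

namespace Groth.Agent.H84.TwistBound.Fib

variable {X Y : Scheme.{u}} (f : X ⟶ Y)

instance additive_pullback {Z : Scheme.{u}} (i : Z ⟶ X) :
    Functor.Additive (Scheme.Modules.pullback i) :=
  (Scheme.Modules.pullbackPushforwardAdjunction i).left_adjoint_additive

/-- Restriction to a fibre keeps short exact sequences with flat quotient exact. -/
theorem shortExact_fiber {S : ShortComplex X.Modules} (hS : S.ShortExact) (y : Y)
    (h3 : ∀ x : X, f x = y → FlatMod.IsFlatOverAt f S.X₃ x) :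
    (S.map (Scheme.Modules.pullback (f.fiberι y))).ShortExact := by
  let i := f.fiberι y
  haveI : PreservesColimitsOfSize.{u, u} (Scheme.Modules.pullback i) :=
    (Scheme.Modules.pullbackPushforwardAdjunction i).leftAdjoint_preservesColimits
  haveI : PreservesFiniteColimits (Scheme.Modules.pullback i) :=
    PreservesColimitsOfSize.preservesFiniteColimits _
  haveI := hS.epi_g
  have hmono : Mono ((Scheme.Modules.pullback i).map S.f) := by
    rw [mono_iff_stalkMapₗ_injective]
    intro z
    letI := (i.stalkMap z).hom.toAlgebra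
    letI := (f.stalkMap (i z)).hom.toAlgebra
    letI m₁ := FlatMod.moduleStalkOver f S.X₁ (i z)
    letI m₂ := FlatMod.moduleStalkOver f S.X₂ (i z)
    letI m₃ := FlatMod.moduleStalkOver f S.X₃ (i z)
    haveI : IsScalarTower (Y.presheaf.stalk (f (i z))) (X.presheaf.stalk (i z))
        (S.X₁.presheaf.stalk (i z)) := IsScalarTower.of_algebraMap_smul fun _ _ => rfl
    haveI : IsScalarTower (Y.presheaf.stalk (f (i z))) (X.presheaf.stalk (i z))
        (S.X₂.presheaf.stalk (i z)) := IsScalarTower.of_algebraMap_smul fun _ _ => rfl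
    haveI : IsScalarTower (Y.presheaf.stalk (f (i z))) (X.presheaf.stalk (i z))
        (S.X₃.presheaf.stalk (i z)) := IsScalarTower.of_algebraMap_smul fun _ _ => rfl
    have hy : f (i z) = y := by
      have : i z ∈ f ⁻¹' {y} := by rw [← f.range_fiberι y]; exact ⟨z, rfl⟩
      exact this
    haveI : Module.Flat (Y.presheaf.stalk (f (i z))) (S.X₃.presheaf.stalk (i z)) := h3 (i z) hy
    obtain ⟨hf, hg, hex⟩ := SqZeroMod.stalk_shortExact hS (i z)
    have hinj : Function.Injective ((stalkMapₗ S.f (i z)).lTensor ((f.fiber y).presheaf.stalk z)) :=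
      Tensor.lTensor_injective (IsLocalRing.maximalIdeal (Y.presheaf.stalk (f (i z))))
        (i.stalkMap_surjective z) (H46.FiberStalk.ker_stalkMap_fiberι f y z) _ _ hf hg hex
    haveI := DerivedOX.PullbackStalk.isIso_comparison i z
    have hiso : ∀ M : X.Modules, Function.Bijective ((DerivedOX.PullbackStalk.comparison i z).app M) :=
      fun M => (ConcreteCategory.isIso_iff_bijective _).mp inferInstance
    have hnat := (DerivedOX.PullbackStalk.comparison i z).naturality S.f
    intro a b hab
    obtain ⟨a', rfl⟩ := (hiso _).2 a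
    obtain ⟨b', rfl⟩ := (hiso _).2 b
    have e := fun t => ConcreteCategory.congr_hom hnat t
    exact congrArg _ (hinj ((hiso _).1 ((e a').trans (hab.trans (e b').symm))))
  refine ShortComplex.ShortExact.mk' ?_ hmono
    (inferInstanceAs (Epi ((Scheme.Modules.pullback i).map S.g)))
  exact ShortComplex.exact_of_g_is_cokernel _
    ((CokernelCofork.ofπ S.g S.zero).mapIsColimit hS.gIsCokernel (Scheme.Modules.pullback i))

/-- Dimensions in a three-term exact sequence. -/
theorem finrank_le {k U V W : Type u} [Field k] [AddCommGroup U] [Module k U] [AddCommGroup V]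
    [Module k V] [AddCommGroup W] [Module k W] (hU : Module.Finite k U) (hV : Module.Finite k V)
    (hW : Module.Finite k W) (a : U →ₗ[k] V) (b : V →ₗ[k] W) (h : Function.Exact a b) :
    Module.finrank k V ≤ Module.finrank k U + Module.finrank k W := by
  have h1 := b.finrank_range_add_finrank_ker
  have h2 : Module.finrank k (LinearMap.range a) ≤ Module.finrank k U := a.finrank_range_le
  have h3 : Module.finrank k (LinearMap.range b) ≤ Module.finrank k W :=
    Submodule.finrank_le _
  rw [h.linearMap_ker_eq] at h1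
  omega

/-- Dimensions along an injection. -/
theorem finrank_le_inj {k U V : Type u} [Field k] [AddCommGroup U] [Module k U] [AddCommGroup V]
    [Module k V] (hV : Module.Finite k V) (a : U →ₗ[k] V) (h : Function.Injective a) :
    Module.finrank k U ≤ Module.finrank k V :=
  LinearMap.finrank_le_finrank_of_injective h

variable [IsProper f] [IsLocallyNoetherian X]

/-- The three rank inequalities of the fibre cohomology sequence. -/
theorem fiberRank_le {S : ShortComplex X.Modules} (hS : S.ShortExact) (h₁ : Coh.IsCoh S.X₁)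
    (h₂ : Coh.IsCoh S.X₂) (h₃ : Coh.IsCoh S.X₃) (y : Y)
    (h3 : ∀ x : X, f x = y → FlatMod.IsFlatOverAt f S.X₃ x) (p : ℕ) :
    CohIII.fiberRank f S.X₂ p y ≤ CohIII.fiberRank f S.X₁ p y + CohIII.fiberRank f S.X₃ p y ∧
    CohIII.fiberRank f S.X₃ p y ≤ CohIII.fiberRank f S.X₂ p y + CohIII.fiberRank f S.X₁ (p + 1) y ∧
    CohIII.fiberRank f S.X₁ (p + 1) y ≤ CohIII.fiberRank f S.X₃ p y + CohIII.fiberRank f S.X₂ (p + 1) y ∧
    CohIII.fiberRank f S.X₁ 0 y ≤ CohIII.fiberRank f S.X₂ 0 y := by
  letI : (f.fiber y).Over (Spec (CommRingCat.of (Y.residueField y))) := ⟨f.fiberToSpecResidueField y⟩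
  haveI : IsProper (f.fiber y ↘ Spec (CommRingCat.of (Y.residueField y))) :=
    show IsProper (f.fiberToSpecResidueField y) from
      MorphismProperty.of_isPullback (IsPullback.of_hasPullback f (Y.fromSpecResidueField y)) ‹_›
  have hfin : ∀ (M : X.Modules), Coh.IsCoh M → ∀ q : ℕ, Module.Finite (Y.residueField y)
      (Coh.HH (f.fiber y) ((Scheme.Modules.pullback (f.fiberι y)).obj M) q) := fun M hM q => by
    haveI : M.IsQuasicoherent := hM.1
    exact ExchangeFP29.Main.finite_fiberH f M (ZarCoh.FP.isFP_of_isCoh M hM) y q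
  have hS' := shortExact_fiber f hS y h3
  let S' := S.map (Scheme.Modules.pullback (f.fiberι y))
  let k := Y.residueField y
  refine ⟨finrank_le (hfin _ h₁ p) (hfin _ h₂ p) (hfin _ h₃ p) _ _
      (Curves.LES.exactK₂ k (S := S') hS' p),
    finrank_le (hfin _ h₂ p) (hfin _ h₃ p) (hfin _ h₁ (p + 1)) _ _
      (Curves.LES.exactK₃ k (S := S') hS' p (p + 1) rfl),
    finrank_le (hfin _ h₃ p) (hfin _ h₁ (p + 1)) (hfin _ h₂ (p + 1)) _ _
      (Curves.LES.exactK₁ k (S := S') hS' p (p + 1) rfl), ?_⟩
  haveI : Mono S'.f := hS'.mono_f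
  exact finrank_le_inj (k := k) (hfin _ h₂ 0) _ (Curves.LES.mapK_injective_of_mono k S'.f)

end Groth.Agent.H84.TwistBound.Fib
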