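import Groth.Agent.H84.TwistBound.Fib
import Groth.Agent.H84.TwistBound.Betti
import Groth.Agent.Lib.PosLin.CohBound
import Groth.Agent.Lib.FibreDim.Global
import Groth.Agent.H19.FlatLocus.Scheme
import Groth.Agent.Lib.ZarCoh.SupportPullback

/-!
# A bound for the cohomology of the fibres of the powers of an invertible module, near the generic point
-/

set_option autoImplicit false
set_option linter.style.haveILetI false
set_option linter.unusedSectionVars false
set_option maxHeartbeats 1000000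
universe u

open CategoryTheory CategoryTheory.Limits AlgebraicGeometry
open Groth.Agent.Lib Groth.Agent.Lib.Snapper
open Groth.Agent.Lib.TensorMod.Basic (comm assoc tensorIso leftUnit)
open Groth.Agent.Lib.TensorMod.Invertible (isInvertible_tensorPow isInvertible_dual tensorDualIso)

namespace Groth.Agent.H84.TwistBound.Main

section Chain

variable {X : Type*} [TopologicalSpace X]

/-- A chain of specializations of length `d` from a point, in a set. -/
def Chain (S : Set X) : ℕ → X → Prop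
  | 0, x => x ∈ S
  | d + 1, x => x ∈ S ∧ ∃ y, x ⤳ y ∧ y ≠ x ∧ Chain S d y

theorem Chain.mem {S : Set X} : ∀ {d : ℕ} {x : X}, Chain S d x → x ∈ S
  | 0, _, h => h
  | _ + 1, _, h => h.1

theorem Chain.mono {S T : Set X} (hST : S ⊆ T) : ∀ {d : ℕ} {x : X}, Chain S d x → Chain T d x
  | 0, _, h => hST h
  | _ + 1, _, ⟨h, y, h1, h2, h3⟩ => ⟨hST h, y, h1, h2, Chain.mono hST h3⟩

end Chain

variable {X Y : Scheme.{u}} (f : X ⟶ Y) [IsProper f] [AlgebraicGeometry.IsNoetherian X]
  [AlgebraicGeometry.IsNoetherian Y]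

/-- A module with support away from the fibre has no fibre cohomology. -/
theorem fiberRank_eq_zero {G : X.Modules} (hG : Coh.IsCoh G) (t : Y)
    (h : ∀ x ∈ CohB1.support G, f x ≠ t) (i : ℕ) : CohIII.fiberRank f G i t = 0 := by
  letI : (f.fiber t).Over (Spec (CommRingCat.of (Y.residueField t))) :=
    ⟨f.fiberToSpecResidueField t⟩
  haveI := hG.2
  have hz : IsZero ((Scheme.Modules.pullback (f.fiberι t)).obj G) := by
    rw [← Modules.Support.support_eq_empty_iff, Set.eq_empty_iff_forall_notMem]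
    intro z hz
    refine h _ (ZarCoh.SupportPullback.support_pullback_subset (f.fiberι t) G hz) ?_
    have hm : f.fiberι t z ∈ f ⁻¹' {t} := by rw [← f.range_fiberι t]; exact ⟨z, rfl⟩
    exact hm
  haveI : IsProper (f.fiber t ↘ Spec (CommRingCat.of (Y.residueField t))) :=
    show IsProper (f.fiberToSpecResidueField t) from
      MorphismProperty.of_isPullback (IsPullback.of_hasPullback f (Y.fromSpecResidueField t)) ‹_›
  haveI : Subsingleton (CohIII.fiberH f G t i) :=
    PosLin.CohBound.subsingleton_HH_isZero (k := Y.residueField t) hz i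
  exact Module.finrank_zero_of_subsingleton

/-- The fibre dimensions only depend on the isomorphism class. -/
theorem fiberRank_congr {A B : X.Modules} (e : A ≅ B) (i : ℕ) (t : Y) :
    CohIII.fiberRank f A i t = CohIII.fiberRank f B i t := by
  letI : (f.fiber t).Over (Spec (CommRingCat.of (Y.residueField t))) :=
    ⟨f.fiberToSpecResidueField t⟩
  exact (Curves.LES.isoK (Y.residueField t)
    ((Scheme.Modules.pullback (f.fiberι t)).mapIso e) i).finrank_eq

/-- Twisting does not change flatness at a point. -/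
theorem flatAt_twist {F N : X.Modules} (hN : PicF.IsInvertible N) {x : X}
    (h : FlatMod.IsFlatOverAt f F x) : FlatMod.IsFlatOverAt f (CohB1.tensorMod N F) x := by
  obtain ⟨e⟩ := Snapper.Twist.exists_stalkEquiv_twist hN F x
  letI := FlatMod.moduleStalkOver f F x
  letI := FlatMod.moduleStalkOver f (CohB1.tensorMod N F) x
  haveI : Module.Flat (Y.presheaf.stalk (f.base x)) (F.presheaf.stalk x) := h
  exact Module.Flat.of_linearEquiv
    ({ e.toAddEquiv with map_smul' := fun r m => e.map_smul ((f.stalkMap x).hom r) m } :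
      (CohB1.tensorMod N F).presheaf.stalk x ≃ₗ[Y.presheaf.stalk (f.base x)] F.presheaf.stalk x)

/-- One step of the recursion. -/
theorem step_le {F Qs Qu : X.Modules} {L C P : X.Modules} {e : ℕ} (hL : PicF.IsInvertible L)
    (hF : Coh.IsCoh F) (hC : PicF.IsInvertible C) (hP : PicF.IsInvertible P)
    (iC : CohB1.tensorMod (CohB1.tensorPow L e) C ≅ P)
    {φs : F ⟶ CohB1.tensorMod F C} {πs : CohB1.tensorMod F C ⟶ Qs} {ws : φs ≫ πs = 0}
    (hSs : (ShortComplex.mk φs πs ws).ShortExact) (hQs : Coh.IsCoh Qs)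
    {φu : F ⟶ CohB1.tensorMod F P} {πu : CohB1.tensorMod F P ⟶ Qu} {wu : φu ≫ πu = 0}
    (hSu : (ShortComplex.mk φu πu wu).ShortExact) (hQu : Coh.IsCoh Qu) (t : Y)
    (hs : ∀ x, f x = t → FlatMod.IsFlatOverAt f Qs x)
    (hu : ∀ x, f x = t → FlatMod.IsFlatOverAt f Qu x) (i m : ℕ) :
    CohIII.fiberRank f (CohB1.tensorMod (CohB1.tensorPow L (m + e)) F) i t ≤
      CohIII.fiberRank f (CohB1.tensorMod (CohB1.tensorPow L m) F) i t +
      (CohIII.fiberRank f (CohB1.tensorMod (CohB1.tensorPow L (m + e)) Qs) (i - 1) t +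
        CohIII.fiberRank f (CohB1.tensorMod (CohB1.tensorPow L m) Qu) i t) := by
  have hMe := isInvertible_tensorPow hL (m + e)
  have hMm := isInvertible_tensorPow hL m
  have hFC := PosLin.SectionBound.isCoh_twist_right hF hC
  have hFA := PosLin.SectionBound.isCoh_twist_right hF hP
  let eMM : CohB1.tensorMod (CohB1.tensorPow L (m + e)) C ≅
      CohB1.tensorMod (CohB1.tensorPow L m) P :=
    tensorIso (Ample.Pow.powAdd L m e) (Iso.refl C) ≪≫ assoc _ _ _ ≪≫ tensorIso (Iso.refl _) iC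
  let eswap : CohB1.tensorMod (CohB1.tensorPow L (m + e)) (CohB1.tensorMod F C) ≅
      CohB1.tensorMod (CohB1.tensorPow L m) (CohB1.tensorMod F P) :=
    tensorIso (Iso.refl _) (comm _ _) ≪≫ (assoc _ _ _).symm ≪≫ tensorIso eMM (Iso.refl F) ≪≫
      assoc _ _ _ ≪≫ tensorIso (Iso.refl _) (comm _ _)
  have a := Fib.fiberRank_le f (Twist.twistSeq_shortExact hMm hSu) (Twist.isCoh_twist hMm hF)
    (Twist.isCoh_twist hMm hFA) (Twist.isCoh_twist hMm hQu) t
    (fun x hx => flatAt_twist f hMm (hu x hx)) i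
  have a1 : CohIII.fiberRank f (CohB1.tensorMod (CohB1.tensorPow L m) (CohB1.tensorMod F P)) i t ≤
      CohIII.fiberRank f (CohB1.tensorMod (CohB1.tensorPow L m) F) i t +
        CohIII.fiberRank f (CohB1.tensorMod (CohB1.tensorPow L m) Qu) i t := a.1
  rw [← fiberRank_congr f eswap i t] at a1
  cases i with
  | zero =>
    have b := Fib.fiberRank_le f (Twist.twistSeq_shortExact hMe hSs) (Twist.isCoh_twist hMe hF)
      (Twist.isCoh_twist hMe hFC) (Twist.isCoh_twist hMe hQs) t
      (fun x hx => flatAt_twist f hMe (hs x hx)) 0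
    have b1 : CohIII.fiberRank f (CohB1.tensorMod (CohB1.tensorPow L (m + e)) F) 0 t ≤
        CohIII.fiberRank f (CohB1.tensorMod (CohB1.tensorPow L (m + e)) (CohB1.tensorMod F C)) 0 t :=
      b.2.2.2
    omega
  | succ i =>
    have b := Fib.fiberRank_le f (Twist.twistSeq_shortExact hMe hSs) (Twist.isCoh_twist hMe hF)
      (Twist.isCoh_twist hMe hFC) (Twist.isCoh_twist hMe hQs) t
      (fun x hx => flatAt_twist f hMe (hs x hx)) i
    have b1 : CohIII.fiberRank f (CohB1.tensorMod (CohB1.tensorPow L (m + e)) F) (i + 1) t ≤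
        CohIII.fiberRank f (CohB1.tensorMod (CohB1.tensorPow L (m + e)) Qs) i t +
          CohIII.fiberRank f (CohB1.tensorMod (CohB1.tensorPow L (m + e)) (CohB1.tensorMod F C))
            (i + 1) t := b.2.2.1
    rw [Nat.add_sub_cancel]
    omega

/-- Avoiding finitely many points by a section of `C` with `L^e ⊗ C ≅ A^N` and one of `A^N`. -/
theorem exists_avoiding_pair {A L : X.Modules} (hA : CohB1.IsAmple A) (hL : PicF.IsInvertible L)
    {Z : Set X} (hZ : Z.Finite) :
    ∃ (N e : ℕ) (C : X.Modules) (s : Coh.structureModule X ⟶ C)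
      (u : Coh.structureModule X ⟶ CohB1.tensorPow A N), 0 < e ∧ PicF.IsInvertible C ∧
      Z ⊆ CohB1.genLocus C s ∧ Z ⊆ CohB1.genLocus _ u ∧
      Nonempty (CohB1.tensorMod (CohB1.tensorPow L e) C ≅ CohB1.tensorPow A N) := by
  obtain ⟨n₀, hn₀, hn'⟩ := Ample.GG.exists_isAmple_isGloballyGenerated hA (isInvertible_dual hL)
  have hB := (hn' n₀ le_rfl).1
  obtain ⟨e, he, s, hs, -, -⟩ := Ample.Basis.exists_locus_of_finite hB Z hZ ⊤ (fun _ _ => trivial)
  have hC := isInvertible_tensorPow hB.1 e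
  have hN : 0 < n₀ * e := Nat.mul_pos hn₀ he
  let i : CohB1.tensorMod (CohB1.tensorPow L e) _ ≅ CohB1.tensorPow A (n₀ * e) :=
    (Ample.Pow.powTensor L _ e).symm ≪≫
      Ample.Pow.powIso (tensorIso (Iso.refl L) (comm _ _) ≪≫ (assoc _ _ _).symm ≪≫
        tensorIso (tensorDualIso hL) (Iso.refl _) ≪≫ leftUnit _) e ≪≫ Ample.Pow.powMul A n₀ e
  obtain ⟨n, hn, u, hu, -, -⟩ := Ample.Basis.exists_locus_of_finite hA Z hZ ⊤ (fun _ _ => trivial)
  refine ⟨n₀ * e * n, e * n, _, SecTwist.powHom s n,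
    SecTwist.powHom u (n₀ * e) ≫ (Ample.Pow.powMul A n (n₀ * e) ≪≫
      Ample.Pow.powCongr A (Nat.mul_comm n (n₀ * e))).hom,
    Nat.mul_pos he hn, isInvertible_tensorPow hC n, ?_, ?_, ⟨?_⟩⟩
  · rw [Ample.GenLocus.genLocus_powHom hC s n hn]; exact hs
  · rw [Ample.GenLocus.genLocus_comp_iso,
      Ample.GenLocus.genLocus_powHom (isInvertible_tensorPow hA.1 n) u (n₀ * e) hN]
    exact hu
  · exact tensorIso (Ample.Pow.powMul L e n).symm (Iso.refl _) ≪≫
      (Ample.Pow.powTensor _ _ n).symm ≪≫ Ample.Pow.powIso i n ≪≫ Ample.Pow.powMul A (n₀ * e) n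

variable [IsIntegral Y]

/-- No chain of length `d` in the part of the support over the generic point. -/
def Small (G : X.Modules) (d : ℕ) : Prop :=
  ∀ x, ¬ Chain (CohB1.support G ∩ f ⁻¹' {genericPoint Y}) d x

/-- Over a neighbourhood of the generic point, the whole preimage is in the flat locus. -/
theorem exists_flat_nhd {G : X.Modules} (hG : Coh.IsCoh G) :
    ∃ U : Y.Opens, genericPoint Y ∈ U ∧ ∀ x, f x ∈ U → FlatMod.IsFlatOverAt f G x := by
  haveI := hG.1
  haveI : SheafOfModules.IsFinitePresentation (R := X.ringCatSheaf) G :=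
    ZarCoh.FP.isFP_of_isCoh G hG
  haveI : LocallyOfFinitePresentation f := inferInstance
  have hopen := H19.FlatLocus.Scheme.isOpen_isFlatOverAt f G
  refine ⟨⟨(f '' {x | FlatMod.IsFlatOverAt f G x}ᶜ)ᶜ,
    (f.isClosedMap _ hopen.isClosed_compl).isOpen_compl⟩, ?_, fun x hx => ?_⟩
  · rintro ⟨x, hx, hfx⟩
    refine hx ?_
    letI := FlatMod.moduleStalkOver f G x
    have hfield : IsField (Y.presheaf.stalk (f x)) := by
      rw [hfx]
      exact Field.toIsField Y.functionField
    letI := hfield.toField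
    show Module.Flat (Y.presheaf.stalk (f x)) (G.presheaf.stalk x)
    infer_instance
  · by_contra hc
    exact hx ⟨x, hc, rfl⟩

/-- **The bound near the generic point.** -/
theorem exists_bound {A L : X.Modules} (hA : CohB1.IsAmple A) (hL : PicF.IsInvertible L) :
    ∀ (d : ℕ) (G : X.Modules), Coh.IsCoh G → Small f G d →
      ∃ U : Y.Opens, genericPoint Y ∈ U ∧ ∃ K : ℕ, (d = 0 → K = 0) ∧ ∀ t ∈ U, ∀ m i : ℕ,
        CohIII.fiberRank f (CohB1.tensorMod (CohB1.tensorPow L m) G) i t ≤ K * (m + 1) ^ (d - 1) := by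
  intro d
  induction d with
  | zero =>
    intro G hG hsmall
    haveI := hG.2
    refine ⟨⟨(f '' CohB1.support G)ᶜ,
      (f.isClosedMap _ (Modules.Support.isClosed_support G)).isOpen_compl⟩,
      fun ⟨x, hx, hfx⟩ => hsmall x ⟨hx, hfx⟩, 0, fun _ => rfl, fun t ht m i => ?_⟩
    rw [fiberRank_eq_zero f (Twist.isCoh_twist (isInvertible_tensorPow hL m) hG) t
      (fun x hx hfx => ht ⟨x, by rwa [Twist.support_twist (isInvertible_tensorPow hL m)] at hx, hfx⟩) i]
    exact Nat.zero_le _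
  | succ d ih =>
    intro G hG hsmall
    haveI := hG.2
    have hT : IsClosed (CohB1.support G) := Modules.Support.isClosed_support G
    let Z : Set X := {x | x ∈ CohB1.support G ∧ ∀ z ∈ CohB1.support G, z ⤳ x → z = x} ∪
      {x | Curv2.IsAssPoint G x}
    have hZ : Z.Finite :=
      (Devissage.Dim.finite_maximal hT).union (UnifReg.Hyperplane.finite_assPoints hG)
    obtain ⟨N, e, C, s, u, he, hC, hsZ, huZ, ⟨iC⟩⟩ := exists_avoiding_pair hA hL hZ
    have hAN := isInvertible_tensorPow hA.1 N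
    have key : ∀ {P : X.Modules}, PicF.IsInvertible P → ∀ t : Coh.structureModule X ⟶ P,
        Z ⊆ CohB1.genLocus P t → ∃ (Q : X.Modules) (φ : G ⟶ CohB1.tensorMod G P)
          (π : CohB1.tensorMod G P ⟶ Q) (w : φ ≫ π = 0),
          (ShortComplex.mk φ π w).ShortExact ∧ Coh.IsCoh Q ∧ Small f Q d := by
      intro P hP t ht
      obtain ⟨Q, φ, π, w, hS, hQ, hsupp⟩ := PosLin.CohBound.exists_mulSeq hG hP t
        (fun x hx => ht (Or.inr hx))
      refine ⟨Q, φ, π, w, hS, hQ, fun x hx => ?_⟩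
      obtain ⟨hxQ, hxη⟩ := hx.mem
      obtain ⟨hx1, hx2⟩ := hsupp x hxQ
      obtain ⟨z, hz, hzx, hmax⟩ := Ideal.Prime.exists_maximal_generization hT hx2
      have hzη : f z = genericPoint Y := by
        have h1 : f z ⤳ f x := hzx.map f.continuous
        rw [show f x = genericPoint Y from hxη] at h1
        exact (h1.antisymm (genericPoint_specializes (f z))).eq
      have hne : x ≠ z := fun h => hx1 (h ▸ ht (Or.inl ⟨hz, hmax⟩))
      exact hsmall z ⟨⟨hz, hzη⟩, x, hzx, hne,
        hx.mono (Set.inter_subset_inter_left _ fun y hy => (hsupp y hy).2)⟩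
    obtain ⟨Qs, φs, πs, ws, hSs, hQs, hQs'⟩ := key hC s hsZ
    obtain ⟨Qu, φu, πu, wu, hSu, hQu, hQu'⟩ := key hAN u huZ
    obtain ⟨Us, hUs, Ks, hKs0, hKs⟩ := ih Qs hQs hQs'
    obtain ⟨Uu, hUu, Ku, hKu0, hKu⟩ := ih Qu hQu hQu'
    obtain ⟨Vs, hVs, hfs⟩ := exists_flat_nhd f hQs
    obtain ⟨Vu, hVu, hfu⟩ := exists_flat_nhd f hQu
    obtain ⟨VG, hVG, hfG⟩ := exists_flat_nhd f hG
    obtain ⟨V, hV, hηV, hVle⟩ := exists_isAffineOpen_mem_and_subset (X := Y)
      (x := genericPoint Y) (U := Us ⊓ Uu ⊓ Vs ⊓ Vu ⊓ VG) ⟨⟨⟨⟨hUs, hUu⟩, hVs⟩, hVu⟩, hVG⟩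
    haveI : IsAffine (V : Scheme.{u}) := hV
    have hbase : ∀ j : ℕ, ∃ c : ℕ, ∀ t ∈ V, ∀ i : ℕ,
        CohIII.fiberRank f (CohB1.tensorMod (CohB1.tensorPow L j) G) i t ≤ c := fun j =>
      Betti.exists_fiberRank_bound f _ (Twist.isCoh_twist (isInvertible_tensorPow hL j) hG) V
        fun x hx => flatAt_twist f (isInvertible_tensorPow hL j) (hfG x (hVle hx).2)
    choose c hc using hbase
    refine ⟨V, hηV, (∑ j ∈ Finset.range e, c j) + (Ks + Ku), fun h => absurd h d.succ_ne_zero,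
      fun t ht m i => ?_⟩
    have ht' := hVle ht
    let P : ℕ → ℕ := fun m => CohIII.fiberRank f (CohB1.tensorMod (CohB1.tensorPow L m) G) i t
    have hstep : ∀ m, P (m + e) ≤ P m + (Ks + Ku) * (m + e + 1) ^ (d - 1) := by
      intro m
      have h := step_le f hL hG hC hAN iC hSs hQs hSu hQu t
        (fun x hx => hfs x (by rw [hx]; exact ht'.1.1.2))
        (fun x hx => hfu x (by rw [hx]; exact ht'.1.2)) i m
      have h1 := hKs t ht'.1.1.1.1 (m + e) (i - 1)
      have h2 := (hKu t ht'.1.1.1.2 m i).trans (Nat.mul_le_mul_left Ku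
        (Nat.pow_le_pow_left (show m + 1 ≤ m + e + 1 by omega) (d - 1)))
      exact h.trans (le_of_le_of_eq (Nat.add_le_add_left (Nat.add_le_add h1 h2) _)
        (by rw [Nat.add_mul]))
    refine (PosLin.CohBound.rec_bound he hstep m).trans ?_
    rw [Nat.add_sub_cancel, add_mul (∑ j ∈ Finset.range e, c j)]
    refine add_le_add ((Finset.sum_le_sum fun j _ => hc j t ht i).trans
      (Nat.le_mul_of_pos_right _ (pow_pos m.succ_pos d))) ?_
    cases d with
    | zero => simp [hKs0 rfl, hKu0 rfl]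
    | succ d =>
      rw [Nat.add_sub_cancel, mul_assoc, pow_succ']
      exact Nat.mul_le_mul_left _ (Nat.mul_le_mul_right _ (Nat.le_succ m))

/-- A chain of specializations over a point bounds the dimension of the fibre from below. -/
theorem le_dim_of_chain (t : Y) {d : ℕ} {x : X} (h : Chain (f ⁻¹' {t}) d x) :
    (d : WithBot ℕ∞) ≤ topologicalKrullDim ↥(f.fiber t) := by
  let φ := f.fiberHomeo t
  suffices key : ∀ (d : ℕ) (x : X) (h : Chain (f ⁻¹' {t}) d x),
      ∃ l : LTSeries (TopologicalSpace.IrreducibleCloseds ↥(f.fiber t)), l.length = d ∧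
        ((l.last : TopologicalSpace.IrreducibleCloseds ↥(f.fiber t)) : Set ↥(f.fiber t)) =
          closure {φ.symm ⟨x, h.mem⟩} by
    obtain ⟨l, hl, -⟩ := key d x h
    exact hl ▸ Order.LTSeries.length_le_krullDim l
  intro d
  induction d with
  | zero =>
    intro x h
    exact ⟨RelSeries.singleton _ ⟨closure {φ.symm ⟨x, h.mem⟩}, isIrreducible_singleton.closure,
      isClosed_closure⟩, rfl, rfl⟩
  | succ d ih =>
    intro x h
    obtain ⟨hx, y, hxy, hne, hy⟩ := id h
    obtain ⟨l, hl, hlast⟩ := ih y hy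
    let top : TopologicalSpace.IrreducibleCloseds ↥(f.fiber t) :=
      ⟨closure {φ.symm ⟨x, h.mem⟩}, isIrreducible_singleton.closure, isClosed_closure⟩
    have hspec : φ.symm ⟨x, h.mem⟩ ⤳ φ.symm ⟨y, hy.mem⟩ :=
      ((subtype_specializes_iff _ _).2 hxy).map φ.symm.continuous
    have hlt : l.last < top := by
      refine lt_of_le_of_ne ?_ fun he => hne ?_
      · rw [← SetLike.coe_subset_coe, hlast]
        exact specializes_iff_closure_subset.1 hspec
      · have h2 : closure {φ.symm ⟨y, hy.mem⟩} = closure {φ.symm ⟨x, h.mem⟩} := by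
          rw [← hlast, he]; rfl
        have h3 := φ.symm.injective (inseparable_iff_closure_eq.2 h2).eq
        exact congrArg Subtype.val h3
    exact ⟨l.snoc top hlt, by simp [RelSeries.snoc, hl], by simp [top]⟩

/-- **The bound over a neighbourhood of the generic point, with exponent the fibre dimension.** -/
theorem exists_bound_dim {A L : X.Modules} (hA : CohB1.IsAmple A) (hL : PicF.IsInvertible L)
    {F : X.Modules} (hF : Coh.IsCoh F) :
    ∃ U : Y.Opens, genericPoint Y ∈ U ∧ ∃ K : ℕ, ∀ t ∈ U, ∀ e : ℕ,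
      topologicalKrullDim ↥(f.fiber t) = e → ∀ m : ℕ, 1 ≤ m → ∀ i : ℕ,
        CohIII.fiberRank f (CohB1.tensorMod F (CohB1.tensorPow L m)) i t ≤ K * m ^ e := by
  classical
  by_cases hex : ∃ e : ℕ, ∃ t : Y, topologicalKrullDim ↥(f.fiber t) = e
  swap
  · exact ⟨⊤, trivial, 0, fun t _ e he => absurd ⟨e, t, he⟩ hex⟩
  let d := Nat.find hex
  obtain ⟨t₀, ht₀⟩ := Nat.find_spec hex
  have hsmall : Small f F (d + 1) := by
    intro x hx
    have h1 := le_dim_of_chain f (genericPoint Y) (hx.mono Set.inter_subset_right)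
    have h2 := (FibreDim.Global.isClosed_setOf_le_fibre_dim f f.isClosedMap (d + 1))
    have h3 : t₀ ∈ {y : Y | ((d + 1 : ℕ) : WithBot ℕ∞) ≤ topologicalKrullDim ↥(f.fiber y)} :=
      (genericPoint_specializes t₀).mem_closed h2 h1
    rw [Set.mem_ofPred_eq, ht₀] at h3
    have h4 : d + 1 ≤ d := by exact_mod_cast h3
    omega
  obtain ⟨U, hU, K, -, hK⟩ := exists_bound f hA hL (d + 1) F hF hsmall
  refine ⟨U, hU, K * 2 ^ d, fun t ht e he m hm i => ?_⟩
  rw [fiberRank_congr f (comm _ _) i t, mul_assoc]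
  refine (hK t ht m i).trans (Nat.mul_le_mul_left _ ?_)
  rw [Nat.add_sub_cancel]
  calc (m + 1) ^ d ≤ (2 * m) ^ d := Nat.pow_le_pow_left (by omega) d
    _ = 2 ^ d * m ^ d := mul_pow 2 m d
    _ ≤ 2 ^ d * m ^ e :=
      Nat.mul_le_mul_left _ (Nat.pow_le_pow_right hm (Nat.find_min' hex ⟨t, he⟩))

end Groth.Agent.H84.TwistBound.Main
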