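import Mathlib.LinearAlgebra.TensorProduct.Quotient
import Mathlib.RingTheory.Flat.Basic
import Mathlib.RingTheory.Flat.Equalizer
import Mathlib.LinearAlgebra.Isomorphisms

/-!
# Tensoring with a quotient by an ideal extended from the base
-/

set_option autoImplicit false
universe u

open scoped TensorProduct

namespace Groth.Agent.H84.TwistBound.Tensor

variable {R O B : Type u} [CommRing R] [CommRing O] [CommRing B] [Algebra O B]

theorem one_tmul_eq_zero_iff {M : Type u} [AddCommGroup M] [Module O M]
    (hπ : Function.Surjective (algebraMap O B)) (a : M) :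
    (1 : B) ⊗ₜ[O] a = 0 ↔ a ∈ RingHom.ker (algebraMap O B) • (⊤ : Submodule O M) := by
  let e : (O ⧸ RingHom.ker (Algebra.ofId O B)) ≃ₐ[O] B :=
    Ideal.quotientKerAlgEquivOfSurjective (f := Algebra.ofId O B) hπ
  let E : B ⊗[O] M ≃ₗ[O] M ⧸ (RingHom.ker (Algebra.ofId O B) • (⊤ : Submodule O M)) :=
    (TensorProduct.congr e.toLinearEquiv.symm (LinearEquiv.refl O M)).trans
      (TensorProduct.quotTensorEquivQuotSMul M _)
  have hE : E (1 ⊗ₜ a) = Submodule.Quotient.mk a := by
    simp only [E, LinearEquiv.trans_apply, TensorProduct.congr_tmul, LinearEquiv.refl_apply]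
    rw [show e.toLinearEquiv.symm 1 = 1 from map_one e.symm,
      TensorProduct.quotTensorEquivQuotSMul_mk_one_tmul]
  rw [← LinearEquiv.map_eq_zero_iff E, hE, Submodule.Quotient.mk_eq_zero]
  rfl

theorem exists_one_tmul {M : Type u} [AddCommGroup M] [Module O M]
    (hπ : Function.Surjective (algebraMap O B)) (z : B ⊗[O] M) : ∃ a : M, (1 : B) ⊗ₜ a = z := by
  induction z using TensorProduct.induction_on with
  | zero => exact ⟨0, TensorProduct.tmul_zero _ _⟩
  | tmul b x =>
    obtain ⟨o, rfl⟩ := hπ b
    exact ⟨o • x, by rw [← TensorProduct.smul_tmul, Algebra.smul_def, mul_one]⟩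
  | add x y hx hy =>
    obtain ⟨a, rfl⟩ := hx
    obtain ⟨b, rfl⟩ := hy
    exact ⟨a + b, TensorProduct.tmul_add _ _ _⟩

/-- Tensoring with `O / mO` keeps injections with flat cokernel over `R` injective. -/
theorem lTensor_injective [Algebra R O] {M₁ M₂ M₃ : Type u}
    [AddCommGroup M₁] [Module O M₁] [Module R M₁] [IsScalarTower R O M₁]
    [AddCommGroup M₂] [Module O M₂] [Module R M₂] [IsScalarTower R O M₂]
    [AddCommGroup M₃] [Module O M₃] [Module R M₃] [IsScalarTower R O M₃] [Module.Flat R M₃]
    (m : Ideal R) (hπ : Function.Surjective (algebraMap O B))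
    (hker : RingHom.ker (algebraMap O B) = m.map (algebraMap R O))
    (f : M₁ →ₗ[O] M₂) (g : M₂ →ₗ[O] M₃) (hf : Function.Injective f) (hg : Function.Surjective g)
    (hex : Function.Exact f g) : Function.Injective (f.lTensor B) := by
  refine (injective_iff_map_eq_zero _).2 fun z hz => ?_
  obtain ⟨a, rfl⟩ := exists_one_tmul hπ z
  rw [LinearMap.lTensor_tmul, one_tmul_eq_zero_iff hπ, hker] at hz
  have hR : f a ∈ m • (⊤ : Submodule R M₂) := by
    refine Submodule.smul_induction_on hz (fun k hk x _ => ?_) (fun x y hx hy => add_mem hx hy)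
    induction hk using Submodule.span_induction generalizing x with
    | mem k hk =>
      obtain ⟨r, hr, rfl⟩ := hk
      rw [IsScalarTower.algebraMap_smul]
      exact Submodule.smul_mem_smul hr trivial
    | zero => rw [zero_smul]; exact zero_mem _
    | add k l _ _ hk hl => rw [add_smul]; exact add_mem (hk x trivial) (hl x trivial)
    | smul c k _ hk =>
      rw [smul_eq_mul, mul_comm, mul_smul]
      exact hk (c • x) trivial
  have h1 : (1 : R ⧸ m) ⊗ₜ[R] f a = 0 := by
    rw [← LinearEquiv.map_eq_zero_iff (TensorProduct.quotTensorEquivQuotSMul M₂ m),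
      TensorProduct.quotTensorEquivQuotSMul_mk_one_tmul, Submodule.Quotient.mk_eq_zero]
    exact hR
  have hinj : Function.Injective ((f.restrictScalars R).lTensor (R ⧸ m)) :=
    LinearMap.lTensor_injective_of_exact_of_flat (g.restrictScalars R) hg (f.restrictScalars R) hf
      hex (R ⧸ m)
  have h2 : (1 : R ⧸ m) ⊗ₜ[R] a = 0 := hinj (h1.trans (map_zero _).symm)
  rw [← LinearEquiv.map_eq_zero_iff (TensorProduct.quotTensorEquivQuotSMul M₁ m),
    TensorProduct.quotTensorEquivQuotSMul_mk_one_tmul, Submodule.Quotient.mk_eq_zero] at h2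
  rw [one_tmul_eq_zero_iff hπ, hker]
  refine Submodule.smul_induction_on h2 (fun r hr x _ => ?_) (fun x y hx hy => add_mem hx hy)
  rw [← IsScalarTower.algebraMap_smul O r x]
  exact Submodule.smul_mem_smul (Ideal.mem_map_of_mem _ hr) trivial

end Groth.Agent.H84.TwistBound.Tensor
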